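import Cfsg.Agent.Lib.Helper11.Fi23o.Model
import Cfsg.Agent.Lib.Helper11.Order

set_option autoImplicit false
set_option maxRecDepth 100000

namespace Cfsg.Agent.Lib.Helper11.Fi23o

open Cfsg.Spor Cfsg.Spor.Fi23 Cfsg.Agent.Lib.Helper11.Fi23a

set_option maxHeartbeats 0

noncomputable def mnets : List (List (ℕ × ℕ)) := [[(mk11_0, 16384), (mk11_1, 8192), (mk11_2, 4096), (mk11_3, 2048), (mk11_4, 1024), (mk11_5, 512), (mk11_6, 256), (mk11_7, 128), (mk11_8, 64), (mk11_9, 32), (mk11_10, 16), (mk11_11, 8), (mk11_12, 4), (mk11_13, 2), (mk11_14, 1), (mk11_15, 2), (mk11_16, 4), (mk11_17, 8), (mk11_18, 16), (mk11_19, 32), (mk11_20, 64), (mk11_21, 128), (mk11_22, 256), (mk11_23, 512), (mk11_24, 1024), (mk11_25, 2048), (mk11_26, 4096), (mk11_27, 8192), (mk11_28, 16384)], [(mk12_0, 16384), (mk12_1, 8192), (mk12_2, 4096), (mk12_3, 2048), (mk12_4, 1024), (mk12_5, 512), (mk12_6,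 256), (mk12_7, 128), (mk12_8, 64), (mk12_9, 32), (mk12_10, 16), (mk12_11, 8), (mk12_12, 4), (mk12_13, 2), (mk12_14, 1), (mk12_15, 2), (mk12_16, 4), (mk12_17, 8), (mk12_18, 16), (mk12_19, 32), (mk12_20, 64), (mk12_21, 128), (mk12_22, 256), (mk12_23, 512), (mk12_24, 1024), (mk12_25, 2048), (mk12_26, 4096), (mk12_27, 8192), (mk12_28, 16384)], [(mk13_0, 16384), (mk13_1, 8192), (mk13_2, 4096), (mk13_3, 2048), (mk13_4, 1024), (mk13_5, 512), (mk13_6, 256), (mk13_7, 128), (mk13_8, 64), (mk13_9, 32), (mk13_10, 16), (mk13_11, 8), (mk13_12, 4), (mk13_13, 2), (mk13_14, 1), (mk13_15, 2), (mk13_16, 4), (mk13_17, 8), (mk13_18, 16), (mk13_19, 32), (mk13_20, 64), (mk13_21, 128), (mk13_22, 256), (mk13_23, 512), (mk13_24, 1024), (mk13_25, 2048), (mk13_26, 4096), (mk13_27, 8192), (mk13_28, 16384)], [(mk14_0, 16384), (mk14_1, 8192), (mk14_2, 4096), (mk14_3, 2048), (mk14_4, 1024),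 (mk14_5, 512), (mk14_6, 256), (mk14_7, 128), (mk14_8, 64), (mk14_9, 32), (mk14_10, 16), (mk14_11, 8), (mk14_12, 4), (mk14_13, 2), (mk14_14, 1), (mk14_15, 2), (mk14_16, 4), (mk14_17, 8), (mk14_18, 16), (mk14_19, 32), (mk14_20, 64), (mk14_21, 128), (mk14_22, 256), (mk14_23, 512), (mk14_24, 1024), (mk14_25, 2048), (mk14_26, 4096), (mk14_27, 8192), (mk14_28, 16384)], [(mk15_0, 16384), (mk15_1, 8192), (mk15_2, 4096), (mk15_3, 2048), (mk15_4, 1024), (mk15_5, 512), (mk15_6, 256), (mk15_7, 128), (mk15_8, 64), (mk15_9, 32), (mk15_10, 16), (mk15_11, 8), (mk15_12, 4), (mk15_13, 2), (mk15_14, 1), (mk15_15, 2), (mk15_16, 4), (mk15_17, 8), (mk15_18, 16), (mk15_19, 32), (mk15_20, 64), (mk15_21, 128), (mk15_22, 256), (mk15_23, 512), (mk15_24, 1024), (mk15_25, 2048), (mk15_26, 4096), (mk15_27, 8192), (mk15_28, 16384)], [(mk16_0, 8192), (mk16_1, 4096), (mk16_2, 2048), (mk16_3,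 1024), (mk16_4, 512), (mk16_5, 256), (mk16_6, 128), (mk16_7, 64), (mk16_8, 32), (mk16_9, 16), (mk16_10, 8), (mk16_11, 4), (mk16_12, 2), (mk16_13, 1), (mk16_14, 2), (mk16_15, 4), (mk16_16, 8), (mk16_17, 16), (mk16_18, 32), (mk16_19, 64), (mk16_20, 128), (mk16_21, 256), (mk16_22, 512), (mk16_23, 1024), (mk16_24, 2048), (mk16_25, 4096), (mk16_26, 8192)], [(mk17_0, 8192), (mk17_1, 4096), (mk17_2, 2048), (mk17_3, 1024), (mk17_4, 512), (mk17_5, 256), (mk17_6, 128), (mk17_7, 64), (mk17_8, 32), (mk17_9, 16), (mk17_10, 8), (mk17_11, 4), (mk17_12, 2), (mk17_13, 1), (mk17_14, 2), (mk17_15, 4), (mk17_16, 8), (mk17_17, 16), (mk17_18, 32), (mk17_19, 64), (mk17_20, 128), (mk17_21, 256), (mk17_22, 512), (mk17_23, 1024), (mk17_24, 2048), (mk17_25, 4096), (mk17_26, 8192)], [(mk18_0, 8192), (mk18_1, 4096), (mk18_2, 2048), (mk18_3, 1024), (mk18_4, 512), (mk18_5, 256), (mk18_6, 128),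 (mk18_7, 64), (mk18_8, 32), (mk18_9, 16), (mk18_10, 8), (mk18_11, 4), (mk18_12, 2), (mk18_13, 1), (mk18_14, 2), (mk18_15, 4), (mk18_16, 8), (mk18_17, 16), (mk18_18, 32), (mk18_19, 64), (mk18_20, 128), (mk18_21, 256), (mk18_22, 512), (mk18_23, 1024), (mk18_24, 2048), (mk18_25, 4096), (mk18_26, 8192)]]
noncomputable def ntl2 : List (List (ℕ × ℕ)) := ntl ++ mnets
def macs : List (List ℕ) := [
  [7, 6, 5, 4, 3, 2, 1, 9, 4, 3, 2, 5, 6, 7, 10, 9, 4, 3, 2, 5, 4, 6, 5, 7, 6, 9, 4, 3, 2, 1, 10, 9, 4, 9, 10, 2, 3, 4, 9, 6, 7, 5, 6, 4, 5, 2, 3, 4, 9, 10, 4, 9, 7, 6, 3, 4, 5, 2, 3, 4, 9, 1, 2, 3, 4, 5, 6, 7],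
  [7, 6, 5, 4, 3, 2, 1, 9, 4, 3, 2, 5, 4, 6, 7, 10, 9, 4, 3, 2, 5, 4, 3, 6, 5, 7, 9, 4, 3, 2, 10, 9, 11, 4, 9, 10, 5, 4, 9, 7, 6, 3, 4, 5, 1, 2, 3, 4, 9, 10, 5, 6, 3, 4, 5, 2, 3, 4, 9, 1, 2, 3, 4, 5, 6, 7],
  [11, 11, 12, 12, 12, 11, 12, 12, 12, 12, 11, 12, 12, 12, 11, 11, 11, 11, 12, 11, 12, 11, 11, 12, 11, 12, 11],
  [11, 11, 12, 12, 11, 12, 11, 12, 11, 11, 12, 11, 11, 11, 12, 12, 12, 11, 11, 12, 12, 12, 11, 11, 12, 12],
  [11, 11, 12, 12, 12, 11, 12, 12, 11, 12, 12, 11, 12, 12, 12, 12, 11, 12, 11, 12, 11, 11, 12, 11, 11, 12, 11, 11, 12, 11, 12, 12],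
  [15, 15, 15, 14, 15, 14, 15, 15, 13, 13, 13, 15, 15, 15, 14],
  [15, 14, 15, 13, 13, 14, 13, 15, 14, 13, 15, 15, 13, 15, 15, 14],
  [15, 15, 15, 13, 14, 15, 13, 14, 15, 16, 15, 15, 14, 15, 13, 15, 13, 15, 13]]
def levels : List (List ℕ × ℕ × ℕ × ℕ × ℕ) := [
  ([1, 2, 3, 4, 5, 6, 7, 8, 9, 10, 1, 2, 3, 4, 5, 6, 7, 9, 10, 11, 12, 13, 14, 15, 16, 17, 18], 3, 0, 0, 31671),
  ([1, 2, 3, 4, 5, 6, 7, 9, 10, 11, 12, 13, 14, 15, 16, 17, 18], 3, 3511, 3511, 28160),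
  ([11, 12, 13, 14, 15, 16, 17, 18], 4, 9830, 9830, 21840),
  ([13, 14, 15, 16, 17, 18], 4, 23890, 23890, 7776),
  ([16, 17, 18], 2, 3512, 3512, 27)]

theorem nets2OK : ntl2.all (fun net => net.all (stOK (2 ^ (2 ^ 15)))) = true := by decide +kernel
theorem macOK : macChk (ntOf ntl2) 15 11 macs = true := by decide +kernel
theorem chainOK : chainChk (ntOf ntl2) 19 levels [] = true := by decide +kernel

theorem hrange : ∀ l < 19, netPerm (ntOf ntl2 l) ∈ psi.range := by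
  have h0 : ∀ l < 11, netPerm (ntOf ntl2 l) ∈ psi.range := by
    intro l hl
    refine ⟨PresentedGroup.mk _ ((WExp.l l).eval (fun l => LTFm.getD l 1)), ?_⟩
    rw [psi_eval]
    show wordPerm (ntOf ntl) [l] = _
    rw [wordPerm_single]
    congr 1
    unfold ntOf ntl2
    have hlen : ntl.length = 11 := by decide +kernel
    rw [List.getD_append _ _ _ _ (by omega)]
  exact macChk_spec psi (ntOf ntl2) 15 (ntOf_ok ntl2 _ nets2OK) macs 11 macOK h0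

theorem order (hup : Nat.card Cfsg.Spor.Fi23 ≠ 0 ∧ Nat.card Cfsg.Spor.Fi23 ≤ 4089470473293004800) :
    Nat.card Cfsg.Spor.Fi23 = 4089470473293004800 ∧ stabL psi (pushB levels []) = ⊥ :=
  order_of_chain psi _ (ntOf ntl2) (ntOf_ok ntl2 _ nets2OK) 19 hrange levels chainOK 4089470473293004800
    (by decide +kernel) hup

theorem hbn : ∀ b ∈ pushB levels [], b < 31671 := by decide


end Cfsg.Agent.Lib.Helper11.Fi23o
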