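import Cfsg.Agent.Lib.Helper11.Fi23o.Model
import Cfsg.Agent.Lib.Helper11.SimpleModel

set_option autoImplicit false
set_option maxRecDepth 100000

namespace Cfsg.Agent.Lib.Helper11.Fi23o

open Cfsg.Spor Cfsg.Spor.Fi23 Cfsg.Agent.Lib.Helper11.Fi23a

set_option maxHeartbeats 0

def primL : List (ℕ × ℕ × WExp × ℕ) := [(3510, 6, (.mul (.l 8) (.mul (.l 7) (.mul (.l 6) (.mul (.l 5) (.mul (.l 4) (.mul (.l 9) (.mul (.l 3) (.mul (.l 4) (.mul (.l 5) (.mul (.l 6) (.mul (.l 7) (.l 8)))))))))))), 6), (28160, 12, (.l 8), 12)]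
theorem primOK : primChk (ntOf ntl) INVm (hExps.map (fun e => e.letters INVm)) 31671 1 primL = true := by
  decide +kernel
def xE : WExp := .mul (.l 3) (.mul (.l 4) (.mul (.l 9) (.mul (.l 5) (.mul (.l 6) (.mul (.l 4) (.mul (.l 5) (.mul (.l 3) (.mul (.l 4) (.mul (.l 9) (.mul (.l 7) (.mul (.l 8) (.mul (.l 6) (.mul (.l 7) (.mul (.l 5) (.mul (.l 6) (.mul (.l 4) (.mul (.l 5) (.mul (.l 3) (.mul (.l 4) (.mul (.l 9) (.mul (.l 2) (.mul (.l 3) (.mul (.l 4) (.mul (.l 5) (.mul (.l 6) (.mul (.l 7) (.l 8)))))))))))))))))))))))))))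
def tE : WExp := .mul (.mul (.inv xE) (.l 2)) xE
theorem normOK : normChk (ntOf ntl) 15 (hExps.map (fun e => e.letters INVm)) (tE.letters INVm)
    ((WExp.inv tE).letters INVm) = true := by decide +kernel


end Cfsg.Agent.Lib.Helper11.Fi23o
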